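import Mathlib
import Cfsg.Agent.Lib.Frobenius.Even
import Cfsg.Agent.Lib.Frobenius.SylowFpf

/-!
# Abelian groups with a quaternion structure have square order
-/

set_option autoImplicit false
set_option linter.style.haveILetI false

universe u

namespace Cfsg.Agent.Lib.Frobenius.QuatSquare

open Cfsg Cfsg.Agent.Lib.Frobenius.Basic Cfsg.Agent.Lib.Frobenius.Even

/-- The quaternion relations on a vector space in characteristic not two force even dimension. -/
theorem even_finrank_of_quat {F W : Type*} [Field F] [AddCommGroup W] [Module F W]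
    [FiniteDimensional F W] (h11 : (-1 : F) ≠ 1) (I J : W →ₗ[F] W)
    (hI : ∀ v, I (I v) = -v) (hJ : ∀ v, J (J v) = -v) (hIJ : ∀ v, I (J v) = -J (I v)) :
    Even (Module.finrank F W) := by
  set d := Module.finrank F W with hd
  have hII : I ∘ₗ I = (-1 : F) • (LinearMap.id : W →ₗ[F] W) := by
    ext v
    simp [hI]
  have hJJ : J ∘ₗ J = (-1 : F) • (LinearMap.id : W →ₗ[F] W) := by
    ext v
    simp [hJ]
  have hIJ' : I ∘ₗ J = (-1 : F) • (J ∘ₗ I) := by
    ext v
    simp [hIJ]
  have hdetI : LinearMap.det I * LinearMap.det I = (-1) ^ d := by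
    rw [← LinearMap.det_comp, hII, LinearMap.det_smul, LinearMap.det_id, mul_one]
  have hdetJ : LinearMap.det J * LinearMap.det J = (-1) ^ d := by
    rw [← LinearMap.det_comp, hJJ, LinearMap.det_smul, LinearMap.det_id, mul_one]
  have hdetIJ : LinearMap.det I * LinearMap.det J
      = (-1) ^ d * (LinearMap.det J * LinearMap.det I) := by
    rw [← LinearMap.det_comp, hIJ', LinearMap.det_smul, LinearMap.det_comp]
  have hpow_ne : ((-1 : F)) ^ d ≠ 0 := pow_ne_zero _ (neg_ne_zero.mpr one_ne_zero)
  have hI0 : LinearMap.det I ≠ 0 := by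
    intro h
    rw [h, mul_zero] at hdetI
    exact hpow_ne hdetI.symm
  have hJ0 : LinearMap.det J ≠ 0 := by
    intro h
    rw [h, mul_zero] at hdetJ
    exact hpow_ne hdetJ.symm
  by_contra hodd
  rw [Nat.not_even_iff_odd] at hodd
  rw [hodd.neg_one_pow, neg_one_mul, mul_comm (LinearMap.det J)] at hdetIJ
  have h0 : LinearMap.det I * LinearMap.det J ≠ 0 := mul_ne_zero hI0 hJ0
  apply h11
  have h2 : (LinearMap.det I * LinearMap.det J) * ((-1 : F)) =
      (LinearMap.det I * LinearMap.det J) * 1 := by
    rw [mul_one]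
    nth_rw 2 [hdetIJ]
    ring
  exact mul_left_cancel₀ h0 h2

/-- The elementary abelian case: determinants. -/
theorem isSquare_card_of_elementary {W : Type u} [AddCommGroup W] [Finite W] {r : ℕ}
    [hr : Fact r.Prime] (hr2 : r ≠ 2) (hW : ∀ v : W, r • v = 0) (I J : W →+ W)
    (hI : ∀ v, I (I v) = -v) (hJ : ∀ v, J (J v) = -v) (hIJ : ∀ v, I (J v) = -J (I v)) :
    IsSquare (Nat.card W) := by
  classical
  letI hmod : Module (ZMod r) W := AddCommGroup.zmodModule hW
  haveI hfin : Module.Finite (ZMod r) W := Module.Finite.of_finite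
  have hcard : Nat.card W = r ^ Module.finrank (ZMod r) W := by
    have h : Nat.card W = Nat.card (ZMod r) ^ Module.finrank (ZMod r) W :=
      @Module.natCard_eq_pow_finrank (ZMod r) W inferInstance _ hmod hfin
    rwa [Nat.card_zmod] at h
  have h11 : (-1 : ZMod r) ≠ 1 := by
    intro h
    have h2 : (2 : ZMod r) = 0 := by
      linear_combination -h
    have h3 : ((2 : ℕ) : ZMod r) = 0 := by exact_mod_cast h2
    rw [ZMod.natCast_eq_zero_iff] at h3
    exact hr2 ((Nat.prime_dvd_prime_iff_eq hr.out Nat.prime_two).mp h3)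
  have heven : Even (Module.finrank (ZMod r) W) :=
    @even_finrank_of_quat (ZMod r) W _ _ hmod hfin h11 (I.toZModLinearMap r) (J.toZModLinearMap r)
      hI hJ hIJ
  rw [hcard]
  exact heven.isSquare_pow r

/-- A finite abelian group of odd order with endomorphisms satisfying the quaternion relations
has square order. -/
theorem isSquare_card_of_quat (n : ℕ) :
    ∀ (V : Type u) [AddCommGroup V] [Finite V], Nat.card V = n → Odd (Nat.card V) →
      ∀ (I J : V →+ V), (∀ v, I (I v) = -v) → (∀ v, J (J v) = -v) →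
        (∀ v, I (J v) = -J (I v)) → IsSquare (Nat.card V) := by
  induction n using Nat.strong_induction_on with
  | _ n ih =>
    intro V _ _ hn hodd I J hI hJ hIJ
    by_cases h1 : Nat.card V = 1
    · rw [h1]
      exact ⟨1, rfl⟩
    obtain ⟨r, hr, hrV⟩ := Nat.exists_prime_and_dvd h1
    haveI : Fact r.Prime := ⟨hr⟩
    have hr2 : r ≠ 2 := by
      rintro rfl
      rw [← Nat.not_even_iff_odd, even_iff_two_dvd] at hodd
      exact hodd hrV
    -- the `r`-torsion
    let W : AddSubgroup V := (nsmulAddMonoidHom r : V →+ V).ker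
    have hWmem : ∀ v, v ∈ W ↔ r • v = 0 := fun v => AddMonoidHom.mem_ker
    have hIW : ∀ v ∈ W, I v ∈ W := by
      intro v hv
      rw [hWmem] at hv ⊢
      rw [← map_nsmul, hv, map_zero]
    have hJW : ∀ v ∈ W, J v ∈ W := by
      intro v hv
      rw [hWmem] at hv ⊢
      rw [← map_nsmul, hv, map_zero]
    let IW : W →+ W := (I.comp W.subtype).codRestrict W (fun v => hIW v v.2)
    let JW : W →+ W := (J.comp W.subtype).codRestrict W (fun v => hJW v v.2)
    have hWsq : IsSquare (Nat.card W) := by
      apply isSquare_card_of_elementary (r := r) hr2 ?_ IW JW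
      · intro v
        apply Subtype.ext
        exact hI v
      · intro v
        apply Subtype.ext
        exact hJ v
      · intro v
        apply Subtype.ext
        exact hIJ v
      · intro v
        apply Subtype.ext
        exact (hWmem v).mp v.2
    -- the quotient
    let IQ : V ⧸ W →+ V ⧸ W := QuotientAddGroup.map W W I hIW
    let JQ : V ⧸ W →+ V ⧸ W := QuotientAddGroup.map W W J hJW
    have hcardmul : Nat.card V = Nat.card (V ⧸ W) * Nat.card W :=
      AddSubgroup.card_eq_card_quotient_mul_card_addSubgroup W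
    have hW1 : 1 < Nat.card W := by
      obtain ⟨x, hx⟩ := exists_prime_addOrderOf_dvd_card' (G := V) r hrV
      have hxW : x ∈ W := by
        rw [hWmem, ← hx]
        exact addOrderOf_nsmul_eq_zero x
      haveI : Nontrivial W := by
        refine ⟨⟨⟨x, hxW⟩, 0, ?_⟩⟩
        intro h
        have h0 : x = 0 := congrArg Subtype.val h
        rw [h0, addOrderOf_zero] at hx
        exact hr.one_lt.ne hx
      exact Finite.one_lt_card
    have hVpos : 0 < Nat.card V := Nat.card_pos
    have hQpos : 0 < Nat.card (V ⧸ W) := Nat.card_pos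
    have hlt : Nat.card (V ⧸ W) < n := by
      rw [← hn, hcardmul]
      nlinarith
    have hQodd : Odd (Nat.card (V ⧸ W)) := by
      rw [hcardmul] at hodd
      exact (Nat.odd_mul.mp hodd).1
    have hQsq : IsSquare (Nat.card (V ⧸ W)) := by
      apply ih _ hlt (V ⧸ W) rfl hQodd IQ JQ
      · intro v
        induction v using QuotientAddGroup.induction_on with
        | H z =>
          show ((I (I z) : V) : V ⧸ W) = -(z : V ⧸ W)
          rw [hI, QuotientAddGroup.mk_neg]
      · intro v
        induction v using QuotientAddGroup.induction_on with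
        | H z =>
          show ((J (J z) : V) : V ⧸ W) = -(z : V ⧸ W)
          rw [hJ, QuotientAddGroup.mk_neg]
      · intro v
        induction v using QuotientAddGroup.induction_on with
        | H z =>
          show ((I (J z) : V) : V ⧸ W) = -((J (I z) : V) : V ⧸ W)
          rw [hIJ, QuotientAddGroup.mk_neg]
    rw [hcardmul]
    exact hQsq.mul hWsq

/-- Multiplicative form. -/
theorem isSquare_card_of_quat_mul {A : Type u} [CommGroup A] [Finite A] (hodd : Odd (Nat.card A))
    (I J : A →* A) (hI : ∀ v, I (I v) = v⁻¹) (hJ : ∀ v, J (J v) = v⁻¹)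
    (hIJ : ∀ v, I (J v) = (J (I v))⁻¹) : IsSquare (Nat.card A) := by
  have hc : Nat.card (Additive A) = Nat.card A := Nat.card_congr Additive.toMul
  have h := isSquare_card_of_quat _ (Additive A) rfl (by rwa [hc])
    (MonoidHom.toAdditive I) (MonoidHom.toAdditive J)
    (fun v => congrArg Additive.ofMul (hI (Additive.toMul v)))
    (fun v => congrArg Additive.ofMul (hJ (Additive.toMul v)))
    (fun v => congrArg Additive.ofMul (hIJ (Additive.toMul v)))
  rwa [hc] at h

variable {G : Type*} [Group G] [Finite G]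

/-- Quaternion relations in a group acting fixed point freely force the group acted on to be abelian
of odd square order. -/
theorem odd_isSquare_of_quaternion_elements {K H : Subgroup G}
    (hHK : H ≤ Subgroup.normalizer (K : Set G))
    (hfpf : ∀ a ∈ H, a ≠ 1 → ∀ v ∈ K, a * v = v * a → v = 1) {i j : G} (hi : i ∈ H) (hj : j ∈ H)
    (hi1 : i * i ≠ 1) (hij : i * i = j * j) (hi4 : (i * i) * (i * i) = 1)
    (hrel : j * i * j⁻¹ = i⁻¹) :
    (∀ a ∈ K, ∀ b ∈ K, a * b = b * a) ∧ Odd (Nat.card K) ∧ IsSquare (Nat.card K) := by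
  classical
  set z := i * i with hz
  have hzH : z ∈ H := H.mul_mem hi hi
  have hinv : ∀ k ∈ K, z * k * z⁻¹ = k⁻¹ := fun k hk =>
    inverts_of_fpf_involution (K := K) (hHK hzH) hi4 (fun k hk => hfpf z hzH hi1 k hk) hk
  have hcomm : ∀ a ∈ K, ∀ b ∈ K, a * b = b * a := fun a ha b hb => comm_of_inverted hinv ha hb
  have hodd : Odd (Nat.card K) := by
    rw [← Nat.not_even_iff_odd, even_iff_two_dvd]
    intro h2
    haveI : Fact (Nat.Prime 2) := ⟨Nat.prime_two⟩
    obtain ⟨t, ht⟩ := exists_prime_orderOf_dvd_card' (G := K) 2 h2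
    have ht2 : (t : G) * t = 1 := by
      have := pow_orderOf_eq_one t
      rw [ht, sq] at this
      exact congrArg Subtype.val this
    have htinv : (t : G)⁻¹ = t := inv_eq_of_mul_eq_one_left ht2
    have h1 := hinv t t.2
    rw [htinv] at h1
    have h3 : z * (t : G) = t * z := by
      calc z * (t : G) = (z * t * z⁻¹) * z := by group
        _ = _ := by rw [h1]
    have h4 : (t : G) = 1 := hfpf z hzH hi1 t t.2 h3
    have h5 : t = 1 := Subtype.ext h4
    rw [h5, orderOf_one] at ht
    omega
  refine ⟨hcomm, hodd, ?_⟩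
  letI : CommGroup K :=
    { (inferInstance : Group K) with
      mul_comm := fun a b => Subtype.ext (hcomm a a.2 b b.2) }
  have hconj : ∀ g ∈ H, ∀ k : K, g * (k : G) * g⁻¹ ∈ K := fun g hg k =>
    (Subgroup.mem_normalizer_iff.mp (hHK hg) k).mp k.2
  let I : K →* K :=
    { toFun := fun k => ⟨i * k * i⁻¹, hconj i hi k⟩
      map_one' := Subtype.ext (by
        show i * ((1 : K) : G) * i⁻¹ = 1
        simp)
      map_mul' := fun a b => Subtype.ext (by
        show i * ((a : G) * b) * i⁻¹ = (i * a * i⁻¹) * (i * b * i⁻¹)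
        group) }
  let J : K →* K :=
    { toFun := fun k => ⟨j * k * j⁻¹, hconj j hj k⟩
      map_one' := Subtype.ext (by
        show j * ((1 : K) : G) * j⁻¹ = 1
        simp)
      map_mul' := fun a b => Subtype.ext (by
        show j * ((a : G) * b) * j⁻¹ = (j * a * j⁻¹) * (j * b * j⁻¹)
        group) }
  have hI : ∀ k : K, ((I k : K) : G) = i * k * i⁻¹ := fun _ => rfl
  have hJ : ∀ k : K, ((J k : K) : G) = j * k * j⁻¹ := fun _ => rfl
  apply isSquare_card_of_quat_mul hodd I J
  · intro v
    apply Subtype.ext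
    rw [hI, hI]
    have := hinv v v.2
    have h0 : i * (i * (v : G) * i⁻¹) * i⁻¹ = z * v * z⁻¹ := by
      rw [hz]
      group
    rw [h0, this]
    rfl
  · intro v
    apply Subtype.ext
    rw [hJ, hJ]
    have := hinv v v.2
    have h0 : j * (j * (v : G) * j⁻¹) * j⁻¹ = z * v * z⁻¹ := by
      rw [hij]
      group
    rw [h0, this]
    rfl
  · intro v
    apply Subtype.ext
    have hji : j * i = i⁻¹ * j := by
      calc j * i = (j * i * j⁻¹) * j := by group
        _ = _ := by rw [hrel]
    have h3 : ((J (I v) : K) : G) = i⁻¹ * j * v * (i⁻¹ * j)⁻¹ := by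
      rw [hJ, hI, ← hji]
      group
    have h4 : (((J (I v))⁻¹ : K) : G) = z * ((J (I v) : K) : G) * z⁻¹ := by
      have := hinv (J (I v)) (J (I v)).2
      rw [this]
      rfl
    rw [h4, h3, hI, hJ, hz]
    have hii : i = (i * i) * (i * i) * i := by rw [hi4, one_mul]
    have h5 : i * i * (i⁻¹ * j * (v : G) * (i⁻¹ * j)⁻¹) * (i * i)⁻¹
        = i * j * v * j⁻¹ * i⁻¹ := by group
    rw [h5]
    group

end Cfsg.Agent.Lib.Frobenius.QuatSquare
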