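import Mathlib
import Cfsg.Agent.Lib.Frobenius.QuatSquare
import Cfsg.Agent.Lib.Char.FrobeniusKernel

/-!
# Frobenius complements with noncyclic Sylow subgroups: the kernel has odd square order
-/

set_option autoImplicit false
set_option linter.style.haveILetI false

namespace Cfsg.Agent.Lib.Frobenius.QuatComplement

open Cfsg Cfsg.Agent.Lib.Frobenius.Basic Cfsg.Agent.Lib.Frobenius.SylowFpf
  Cfsg.Agent.Lib.Frobenius.QuatSquare

/-- Quaternion elements in a generalized quaternion group. -/
theorem exists_quat_elements (n : ℕ) (h2 : 2 ∣ n) (hn : n ≠ 0) :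
    ∃ i j : QuaternionGroup n, i * i ≠ 1 ∧ i * i = j * j ∧ (i * i) * (i * i) = 1 ∧
      j * i * j⁻¹ = i⁻¹ := by
  obtain ⟨k, rfl⟩ := h2
  have hk : k ≠ 0 := by
    rintro rfl
    simp at hn
  refine ⟨QuaternionGroup.a (k : ZMod (2 * (2 * k))), QuaternionGroup.xa 0, ?_, ?_, ?_, ?_⟩
  · intro h
    rw [QuaternionGroup.a_mul_a, QuaternionGroup.one_def, QuaternionGroup.a.injEq] at h
    have h1 : (((k + k : ℕ)) : ZMod (2 * (2 * k))) = 0 := by
      push_cast
      exact h
    rw [ZMod.natCast_eq_zero_iff] at h1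
    have := Nat.le_of_dvd (by omega) h1
    omega
  · rw [QuaternionGroup.a_mul_a, QuaternionGroup.xa_mul_xa]
    congr 1
    push_cast
    ring
  · rw [QuaternionGroup.a_mul_a, QuaternionGroup.a_mul_a, QuaternionGroup.one_def,
      QuaternionGroup.a.injEq]
    have h1 : (((2 * (2 * k) : ℕ)) : ZMod (2 * (2 * k))) = 0 := ZMod.natCast_self _
    push_cast at h1
    linear_combination h1
  · have hinv : (QuaternionGroup.a (k : ZMod (2 * (2 * k))))⁻¹
        = QuaternionGroup.a (-(k : ZMod (2 * (2 * k)))) := rfl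
    rw [mul_inv_eq_iff_eq_mul, QuaternionGroup.xa_mul_a, hinv, QuaternionGroup.a_mul_xa]
    congr 1
    ring

variable {L : Type*} [Group L] [Finite L]

/-- Quaternion relations inside a Frobenius complement: the kernel has odd square order. -/
theorem kernel_odd_isSquare_of_elements {H : Subgroup L} (hF : IsFrobeniusComplement H) {i j : L}
    (hi : i ∈ H) (hj : j ∈ H) (hi1 : i * i ≠ 1) (hij : i * i = j * j)
    (hi4 : (i * i) * (i * i) = 1) (hrel : j * i * j⁻¹ = i⁻¹) :
    Odd (Nat.card (frobeniusKernel H)) ∧ IsSquare (Nat.card (frobeniusKernel H)) := by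
  obtain ⟨N, hN, hNn, hc⟩ := Cfsg.Agent.Lib.Char.FrobeniusKernel.frobenius_theorem H hF
  have hfpf : ∀ a ∈ H, a ≠ 1 → ∀ v ∈ N, a * v = v * a → v = 1 := by
    intro a ha ha1 v hv hcomm
    exact kernel_fpf hF hN ha ha1 hv hcomm
  have hnorm : H ≤ Subgroup.normalizer (N : Set L) := by
    rw [Subgroup.normalizer_eq_top_iff.mpr hNn]
    exact le_top
  obtain ⟨-, h2, h3⟩ := odd_isSquare_of_quaternion_elements hnorm hfpf hi hj hi1 hij hi4 hrel
  rw [← hN]
  exact ⟨h2, h3⟩

/-- The kernel of a Frobenius complement with a noncyclic Sylow subgroup has odd square order. -/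
theorem kernel_odd_isSquare {H : Subgroup L} (hF : IsFrobeniusComplement H)
    (hZ : ∃ (p : ℕ) (_ : Fact p.Prime) (P : Sylow p H), ¬ IsCyclic P) :
    Odd (Nat.card (frobeniusKernel H)) ∧ IsSquare (Nat.card (frobeniusKernel H)) := by
  obtain ⟨N, hN, hNn, hc⟩ := Cfsg.Agent.Lib.Char.FrobeniusKernel.frobenius_theorem H hF
  have hfpf : ∀ a ∈ H, a ≠ 1 → ∀ v ∈ N, a * v = v * a → v = 1 := by
    intro a ha ha1 v hv hcomm
    exact kernel_fpf hF hN ha ha1 hv hcomm
  have hnorm : H ≤ Subgroup.normalizer (N : Set L) := by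
    rw [Subgroup.normalizer_eq_top_iff.mpr hNn]
    exact le_top
  have hN1 : N ≠ ⊥ := by
    intro h
    have h1 : H.index = 1 := by
      have h2 := card_frobeniusKernel hF
      rw [← hN, h] at h2
      simpa using h2.symm
    exact hF.2.1 (Subgroup.index_eq_one.mp h1)
  obtain ⟨p, hp, P, hP⟩ := hZ
  let P' : Subgroup L := (P : Subgroup H).map H.subtype
  have hP'H : P' ≤ H := by
    rintro _ ⟨x, -, rfl⟩
    exact x.2
  let e : (P : Subgroup H) ≃* P' := Subgroup.equivMapOfInjective _ _ H.subtype_injective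
  have hP' : IsPGroup p P' := IsPGroup.of_equiv P.isPGroup' e
  rcases isCyclic_or_quaternion_of_fpf hN1 (hP'H.trans hnorm) (fun a ha => hfpf a (hP'H ha)) hP'
    with h | ⟨-, n, ⟨f⟩⟩
  · exact absurd (isCyclic_of_surjective e.symm.toMonoidHom e.symm.surjective) hP
  · have hn : n ≠ 0 := by
      rintro rfl
      have h1 : IsCyclic (QuaternionGroup (2 ^ 0)) := QuaternionGroup.quaternionGroup_one_isCyclic
      exact hP (isCyclic_of_surjective (f.symm.trans e.symm).toMonoidHom
        (f.symm.trans e.symm).surjective)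
    obtain ⟨i, j, hi1, hij, hi4, hrel⟩ := exists_quat_elements (2 ^ n) (dvd_pow_self 2 hn)
      (by positivity)
    let g : QuaternionGroup (2 ^ n) →* L := P'.subtype.comp f.symm.toMonoidHom
    have hg : Function.Injective g := P'.subtype_injective.comp f.symm.injective
    have hgH : ∀ x, g x ∈ H := fun x => hP'H (f.symm x).2
    apply kernel_odd_isSquare_of_elements hF (hgH i) (hgH j) (i := g i) (j := g j)
    · rw [← map_mul]
      intro h
      exact hi1 (hg (by rw [h, map_one]))
    · rw [← map_mul, ← map_mul, hij]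
    · rw [← map_mul, ← map_mul, hi4, map_one]
    · rw [← map_inv, ← map_inv, ← map_mul, ← map_mul, hrel]

end Cfsg.Agent.Lib.Frobenius.QuatComplement
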