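import Mathlib
import Cfsg.Agent.Lib.Frobenius.Even
import Cfsg.Agent.Lib.Frobenius.SylowFpf

/-!
# Groups acting fixed point freely have nontrivial centre
-/

set_option autoImplicit false
set_option linter.style.haveILetI false

namespace Cfsg.Agent.Lib.Frobenius.Center

open Cfsg Cfsg.Agent.Lib.Frobenius.Basic Cfsg.Agent.Lib.Frobenius.Even
  Cfsg.Agent.Lib.Frobenius.Invariant Cfsg.Agent.Lib.Frobenius.SylowFpf

/-- An automorphism of a finite abelian group of order prime to `|A|` which fixes all elements of
prime order is trivial. -/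
theorem mulAut_eq_one_of_fix_prime {A : Type*} [CommGroup A] [Finite A] (σ : MulAut A) {p : ℕ}
    (hσp : σ ^ p = 1) (hcop : Nat.Coprime p (Nat.card A))
    (hfix : ∀ y : A, (orderOf y).Prime → σ y = y) (c : A) : σ c = c := by
  classical
  let N : A → A := fun a => ∏ i ∈ Finset.range p, (σ ^ i) a
  have hNpow : ∀ (a : A) (m : ℕ), N (a ^ m) = N a ^ m := by
    intro a m
    simp only [N, map_pow, Finset.prod_pow]
  have hNfix : ∀ y : A, σ y = y → N y = y ^ p := by
    intro y hy
    have h1 : ∀ i : ℕ, (σ ^ i) y = y := by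
      intro i
      induction i with
      | zero => simp
      | succ i ih => rw [pow_succ, MulAut.mul_apply, hy, ih]
    simp only [N, h1, Finset.prod_const, Finset.card_range]
  have hNd : N (σ c / c) = 1 := by
    have h1 : ∀ i ∈ Finset.range p, (σ ^ i) (σ c / c) = (σ ^ (i + 1)) c / (σ ^ i) c := by
      intro i _
      rw [map_div, pow_succ, MulAut.mul_apply]
    simp only [N]
    rw [Finset.prod_congr rfl h1, Finset.prod_range_div (fun i => (σ ^ i) c), hσp]
    simp
  by_contra hne
  have hd1 : σ c / c ≠ 1 := fun h => hne (div_eq_one.mp h)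
  set d := σ c / c with hd
  have hod : orderOf d ≠ 1 := fun h => hd1 (orderOf_eq_one_iff.mp h)
  have hℓ := Nat.minFac_prime hod
  set ℓ := (orderOf d).minFac with hℓdef
  have hℓd : ℓ ∣ orderOf d := Nat.minFac_dvd _
  let y := d ^ (orderOf d / ℓ)
  have hy : orderOf y = ℓ := orderOf_pow_orderOf_div (orderOf_pos d).ne' hℓd
  have h1 : N y = y ^ p := hNfix y (hfix y (by rw [hy]; exact hℓ))
  have h2 : N y = 1 := by
    show N (d ^ (orderOf d / ℓ)) = 1
    rw [hNpow, hNd, one_pow]
  have h3 : ℓ ∣ p := by
    rw [← hy]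
    apply orderOf_dvd_of_pow_eq_one
    rw [← h1, h2]
  have h4 : ℓ ∣ Nat.card A := (hℓd.trans (orderOf_dvd_natCard d))
  have h5 := Nat.dvd_gcd h3 h4
  rw [hcop.gcd_eq_one] at h5
  exact hℓ.one_lt.ne' (Nat.dvd_one.mp h5)

/-- In a finite cyclic group, an element of the same order as `y` lies in the cyclic group generated
by `y`. -/
theorem mem_zpowers_of_orderOf_eq {A : Type*} [Group A] [Finite A] [IsCyclic A] {y y' : A}
    (h : orderOf y' = orderOf y) : y' ∈ Subgroup.zpowers y := by
  classical
  haveI := Fintype.ofFinite A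
  have hd : 0 < orderOf y := orderOf_pos y
  have hS := IsCyclic.card_pow_eq_one_le (α := A) hd
  set S := Finset.univ.filter (fun a : A => a ^ orderOf y = 1) with hSdef
  set T := (Subgroup.zpowers y : Set A).toFinset with hTdef
  have hTS : T ⊆ S := by
    intro a ha
    rw [hTdef, Set.mem_toFinset, SetLike.mem_coe] at ha
    obtain ⟨k, rfl⟩ := Subgroup.mem_zpowers_iff.mp ha
    simp only [hSdef, Finset.mem_filter, Finset.mem_univ, true_and]
    rw [← zpow_natCast, ← zpow_mul, mul_comm, zpow_mul, zpow_natCast, pow_orderOf_eq_one, one_zpow]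
  have hT : T.card = orderOf y := by
    rw [hTdef, Set.toFinset_card, ← Nat.card_eq_fintype_card]
    exact Nat.card_zpowers y
  have heq : T = S := Finset.eq_of_subset_of_card_le hTS (by rw [hT]; exact hS)
  have hy' : y' ∈ S := by
    simp only [hSdef, Finset.mem_filter, Finset.mem_univ, true_and]
    rw [← h, pow_orderOf_eq_one]
  rw [← heq, hTdef, Set.mem_toFinset] at hy'
  exact hy'

variable {G : Type*} [Group G] [Finite G]

/-- The product of a subgroup with a subgroup it normalizes, in the coprime case. -/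
theorem exists_mul_subgroup (A Y : Subgroup G) (hAY : A ≤ Subgroup.normalizer (Y : Set G))
    (hcop : Nat.Coprime (Nat.card A) (Nat.card Y)) :
    ∃ E : Subgroup G, A ≤ E ∧ Y ≤ E ∧ E ≤ A ⊔ Y ∧ Nat.card E = Nat.card A * Nat.card Y := by
  classical
  have hconj : ∀ a ∈ A, ∀ y ∈ Y, a * y * a⁻¹ ∈ Y := by
    intro a ha y hy
    exact (Subgroup.mem_normalizer_iff.mp (hAY ha) y).mp hy
  let E : Subgroup G :=
    { carrier := {g | ∃ a ∈ A, ∃ y ∈ Y, g = a * y}
      mul_mem' := by
        rintro _ _ ⟨a, ha, y, hy, rfl⟩ ⟨b, hb, w, hw, rfl⟩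
        refine ⟨a * b, A.mul_mem ha hb, (b⁻¹ * y * b) * w, Y.mul_mem ?_ hw, by group⟩
        have := hconj b⁻¹ (A.inv_mem hb) y hy
        simpa using this
      one_mem' := ⟨1, A.one_mem, 1, Y.one_mem, by simp⟩
      inv_mem' := by
        rintro _ ⟨a, ha, y, hy, rfl⟩
        refine ⟨a⁻¹, A.inv_mem ha, a * y⁻¹ * a⁻¹, hconj a ha _ (Y.inv_mem hy), by group⟩ }
  have hmem : ∀ g, g ∈ E ↔ ∃ a ∈ A, ∃ y ∈ Y, g = a * y := fun _ => Iff.rfl
  refine ⟨E, ?_, ?_, ?_, ?_⟩
  · intro a ha
    exact ⟨a, ha, 1, Y.one_mem, by simp⟩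
  · intro y hy
    exact ⟨1, A.one_mem, y, hy, by simp⟩
  · rintro _ ⟨a, ha, y, hy, rfl⟩
    exact Subgroup.mul_mem _ (Subgroup.mem_sup_left ha) (Subgroup.mem_sup_right hy)
  · have hdis : ∀ g, g ∈ A → g ∈ Y → g = 1 := by
      intro g hgA hgY
      have h1 := Subgroup.orderOf_dvd_natCard A hgA
      have h2 := Subgroup.orderOf_dvd_natCard Y hgY
      have h3 := Nat.dvd_gcd h1 h2
      rw [hcop.gcd_eq_one] at h3
      exact orderOf_eq_one_iff.mp (Nat.dvd_one.mp h3)
    let f : A × Y → E := fun x => ⟨(x.1 : G) * x.2, x.1, x.1.2, x.2, x.2.2, rfl⟩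
    have hf : Function.Bijective f := by
      constructor
      · rintro ⟨a, y⟩ ⟨b, w⟩ h
        have h0 : (a : G) * y = b * w := congrArg Subtype.val h
        have h1 : (b : G)⁻¹ * a = w * (y : G)⁻¹ := by
          calc (b : G)⁻¹ * a = (b : G)⁻¹ * (a * y) * (y : G)⁻¹ := by group
            _ = (b : G)⁻¹ * (b * w) * (y : G)⁻¹ := by rw [h0]
            _ = _ := by group
        have h2 : (b : G)⁻¹ * a = 1 := by
          apply hdis _ (A.mul_mem (A.inv_mem b.2) a.2)
          rw [h1]
          exact Y.mul_mem w.2 (Y.inv_mem y.2)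
        have h3 : (a : G) = b := (inv_mul_eq_one.mp h2).symm
        have h4 : (y : G) = w := by
          rw [h3] at h0
          exact mul_left_cancel h0
        exact Prod.ext (Subtype.ext h3) (Subtype.ext h4)
      · rintro ⟨_, a, ha, y, hy, rfl⟩
        exact ⟨(⟨a, ha⟩, ⟨y, hy⟩), rfl⟩
    rw [← Nat.card_prod]
    exact (Nat.card_congr (Equiv.ofBijective f hf)).symm

/-- In a group acting fixed point freely on `K ≠ 1`, elements of distinct prime orders, the first
normalizing the cyclic group generated by the second, commute. -/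
theorem commute_of_fpf {K H : Subgroup G} (hK : K ≠ ⊥)
    (hHK : H ≤ Subgroup.normalizer (K : Set G))
    (hfpf : ∀ a ∈ H, a ≠ 1 → ∀ v ∈ K, a * v = v * a → v = 1) {x y : G} (hx : x ∈ H) (hy : y ∈ H)
    (hp : (orderOf x).Prime) (hq : (orderOf y).Prime) (hne : orderOf x ≠ orderOf y)
    (hxy : x * y * x⁻¹ ∈ Subgroup.zpowers y) : x * y = y * x := by
  classical
  have hnorm : x ∈ Subgroup.normalizer ((Subgroup.zpowers y : Subgroup G) : Set G) := by
    rw [Subgroup.mem_normalizer_iff]
    have hle : (Subgroup.zpowers y).map (MulAut.conj x).toMonoidHom ≤ Subgroup.zpowers y := by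
      rw [Subgroup.map_le_iff_le_comap, Subgroup.zpowers_le]
      exact hxy
    have heq : (Subgroup.zpowers y).map (MulAut.conj x).toMonoidHom = Subgroup.zpowers y := by
      apply Subgroup.eq_of_le_of_card_ge hle
      exact (Nat.card_congr (Subgroup.equivMapOfInjective _ _ (MulAut.conj x).injective).toEquiv).le
    intro h
    constructor
    · intro hh
      exact hle ⟨h, hh, rfl⟩
    · intro hh
      rw [← heq] at hh
      obtain ⟨h', hh', hh''⟩ := hh
      have : h' = h := by
        have h0 : x * h' * x⁻¹ = x * h * x⁻¹ := hh''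
        simpa using h0
      rwa [← this]
  have hA : Subgroup.zpowers x ≤ Subgroup.normalizer ((Subgroup.zpowers y : Subgroup G) : Set G) :=
    Subgroup.zpowers_le.mpr hnorm
  have hcardA : Nat.card (Subgroup.zpowers x) = orderOf x := Nat.card_zpowers x
  have hcardY : Nat.card (Subgroup.zpowers y) = orderOf y := Nat.card_zpowers y
  have hcop : Nat.Coprime (Nat.card (Subgroup.zpowers x)) (Nat.card (Subgroup.zpowers y)) := by
    rw [hcardA, hcardY]
    exact (Nat.coprime_primes hp hq).mpr hne
  obtain ⟨E, hAE, hYE, hEs, hcard⟩ := exists_mul_subgroup _ _ hA hcop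
  rw [hcardA, hcardY] at hcard
  have hEH : E ≤ H := hEs.trans (sup_le (Subgroup.zpowers_le.mpr hx) (Subgroup.zpowers_le.mpr hy))
  have hcyc : IsCyclic E := by
    rcases lt_or_gt_of_ne hne with h | h
    · exact isCyclic_of_card_mul_of_fpf' hK (hEH.trans hHK) (fun a ha => hfpf a (hEH ha)) hp hq h
        hcard
    · exact isCyclic_of_card_mul_of_fpf' hK (hEH.trans hHK) (fun a ha => hfpf a (hEH ha)) hq hp h
        (by rw [hcard, mul_comm])
  letI := IsCyclic.commGroup (α := E)
  have := mul_comm (⟨x, hAE (Subgroup.mem_zpowers x)⟩ : E) ⟨y, hYE (Subgroup.mem_zpowers y)⟩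
  exact congrArg Subtype.val this

/-- An involution in a group acting fixed point freely is central. -/
theorem involution_central {K H : Subgroup G} (hK : K ≠ ⊥)
    (hHK : H ≤ Subgroup.normalizer (K : Set G))
    (hfpf : ∀ a ∈ H, a ≠ 1 → ∀ v ∈ K, a * v = v * a → v = 1) {t h : G} (ht : t ∈ H) (ht1 : t ≠ 1)
    (ht2 : t * t = 1) (hh : h ∈ H) : h * t = t * h := by
  let t' := h * t * h⁻¹
  have ht' : t' ∈ H := H.mul_mem (H.mul_mem hh ht) (H.inv_mem hh)
  have ht'1 : t' ≠ 1 := by
    intro h0
    exact ht1 (by simpa [t'] using h0)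
  have ht'2 : t' * t' = 1 := by
    have : t' * t' = h * (t * t) * h⁻¹ := by simp only [t']; group
    rw [this, ht2]
    group
  have h1 := fun k hk =>
    inverts_of_fpf_involution (K := K) (hHK ht) ht2 (fun k hk => hfpf t ht ht1 k hk) (k := k) hk
  have h2 := fun k hk =>
    inverts_of_fpf_involution (K := K) (hHK ht') ht'2 (fun k hk => hfpf t' ht' ht'1 k hk) (k := k) hk
  obtain ⟨k, hk⟩ := Subgroup.ne_bot_iff_exists_ne_one.mp hK
  have hk1 : (k : G) ≠ 1 := fun h0 => hk (Subtype.ext h0)
  have htinv : t⁻¹ = t := inv_eq_of_mul_eq_one_left ht2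
  have ht'inv : t'⁻¹ = t' := inv_eq_of_mul_eq_one_left ht'2
  have h3 : t * t' = 1 := by
    by_contra hne
    apply hk1
    apply hfpf (t * t') (H.mul_mem ht ht') hne k k.2
    have a1 := h1 k k.2
    have a2 := h2 k k.2
    rw [htinv] at a1
    rw [ht'inv] at a2
    have b1 : t * (k : G) = (k : G)⁻¹ * t := by
      calc t * (k : G) = t * k * t * t := by rw [mul_assoc _ t t, ht2, mul_one]
        _ = _ := by rw [a1]
    have b2 : t' * (k : G) = (k : G)⁻¹ * t' := by
      calc t' * (k : G) = t' * k * t' * t' := by rw [mul_assoc _ t' t', ht'2, mul_one]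
        _ = _ := by rw [a2]
    have b3 : t * (k : G)⁻¹ = k * t := by
      rw [← a1]
      calc t * (t * k * t) = (t * t) * k * t := by group
        _ = _ := by rw [ht2, one_mul]
    calc t * t' * k = t * (t' * k) := by group
      _ = t * ((k : G)⁻¹ * t') := by rw [b2]
      _ = (t * (k : G)⁻¹) * t' := by group
      _ = k * t * t' := by rw [b3]
      _ = _ := by group
  have h4 : t' = t := by
    calc t' = t * (t * t') := by rw [← mul_assoc, ht2, one_mul]
      _ = t := by rw [h3, mul_one]
  calc h * t = t' * h := by simp only [t']; group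
    _ = t * h := by rw [h4]

/-- A group acting fixed point freely on a nontrivial group has nontrivial centre. -/
theorem center_ne_bot_of_fpf {K H : Subgroup G} (hK : K ≠ ⊥) (hH : H ≠ ⊥)
    (hHK : H ≤ Subgroup.normalizer (K : Set G))
    (hfpf : ∀ a ∈ H, a ≠ 1 → ∀ v ∈ K, a * v = v * a → v = 1) : Subgroup.center H ≠ ⊥ := by
  classical
  haveI hnt : Nontrivial H := by rwa [Subgroup.nontrivial_iff_ne_bot]
  by_cases heven : 2 ∣ Nat.card H
  · haveI : Fact (Nat.Prime 2) := ⟨Nat.prime_two⟩
    obtain ⟨t, ht⟩ := exists_prime_orderOf_dvd_card' (G := H) 2 heven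
    have hzero : t ∈ Subgroup.center H := by
      rw [Subgroup.mem_center_iff]
      intro h
      apply Subtype.ext
      have ht1 : (t : G) ≠ 1 := by
        intro h0
        have : t = 1 := Subtype.ext h0
        rw [this, orderOf_one] at ht
        omega
      have ht2 : (t : G) * t = 1 := by
        have := pow_orderOf_eq_one t
        rw [ht, sq] at this
        exact congrArg Subtype.val this
      exact involution_central hK hHK hfpf t.2 ht1 ht2 h.2
    intro hbot
    rw [hbot, Subgroup.mem_bot] at hzero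
    rw [hzero, orderOf_one] at ht
    omega
  · -- odd order: a Z-group
    have hZ : IsZGroup H := by
      refine ⟨fun p hp P => ?_⟩
      haveI : Fact p.Prime := ⟨hp⟩
      let P' : Subgroup G := (P : Subgroup H).map H.subtype
      have hP'H : P' ≤ H := by
        rintro _ ⟨x, -, rfl⟩
        exact x.2
      let e : (P : Subgroup H) ≃* P' := Subgroup.equivMapOfInjective _ _ H.subtype_injective
      have hP' : IsPGroup p P' := IsPGroup.of_equiv P.isPGroup' e
      rcases isCyclic_or_quaternion_of_fpf hK (hP'H.trans hHK) (fun a ha => hfpf a (hP'H ha)) hP'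
        with h | ⟨rfl, -⟩
      · exact isCyclic_of_surjective e.symm.toMonoidHom e.symm.surjective
      · -- a Sylow `2`-subgroup of a group of odd order is trivial
        have h1 : Nat.card (P : Subgroup H) = 1 := by
          rcases (P.isPGroup').card_eq_or_dvd with h | h
          · exact h
          · exact absurd (h.trans (Subgroup.card_subgroup_dvd_card _)) heven
        haveI : Subsingleton (P : Subgroup H) := (Nat.card_eq_one_iff_unique.mp h1).1
        exact isCyclic_of_subsingleton
    haveI := hZ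
    have hDc : IsCyclic (commutator H) := IsZGroup.isCyclic_commutator H
    obtain ⟨B, hB⟩ := Subgroup.exists_right_complement'_of_coprime
      (IsZGroup.coprime_commutator_index H)
    have hcard := hB.card_mul_card
    have hindex : (commutator H).index = Nat.card B := hB.symm.index_eq_card
    have hcop : (Nat.card (commutator H)).Coprime (Nat.card B) := by
      rw [← hindex]
      exact IsZGroup.coprime_commutator_index H
    have hB1 : Nat.card B ≠ 1 := by
      intro h1
      have h2 := IsZGroup.commutator_lt (G := H)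
      apply h2.ne
      apply Subgroup.eq_top_of_card_eq
      rw [← hcard, h1, mul_one]
    obtain ⟨p, hp, hpB⟩ := Nat.exists_prime_and_dvd hB1
    haveI : Fact p.Prime := ⟨hp⟩
    obtain ⟨x, hx⟩ := exists_prime_orderOf_dvd_card' (G := B) p hpB
    have hxH : orderOf (x : H) = p := by rw [Subgroup.orderOf_coe]; exact hx
    have hxG : orderOf ((x : H) : G) = p := by rw [Subgroup.orderOf_coe]; exact hxH
    have hdis : Disjoint (commutator H) B := hB.disjoint
    -- `x` commutes with `B`
    have hxB : ∀ b ∈ B, (x : H) * b = b * x := by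
      intro b hb
      have h1 : (x : H) * b * (x : H)⁻¹ * b⁻¹ ∈ commutator H :=
        Subgroup.commutator_mem_commutator (Subgroup.mem_top _) (Subgroup.mem_top _)
      have h2 : (x : H) * b * (x : H)⁻¹ * b⁻¹ ∈ B :=
        B.mul_mem (B.mul_mem (B.mul_mem x.2 hb) (B.inv_mem x.2)) (B.inv_mem hb)
      have h3 := Subgroup.disjoint_def.mp hdis h1 h2
      rw [mul_inv_eq_one, mul_inv_eq_iff_eq_mul] at h3
      exact h3
    -- `x` commutes with the commutator subgroup
    let σ : MulAut (commutator H) := MulAut.conjNormal (x : H)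
    have hσ : ∀ c : commutator H, ((σ c : commutator H) : H) = (x : H) * c * (x : H)⁻¹ :=
      fun c => MulAut.conjNormal_apply _ _
    have hσp : σ ^ p = 1 := by
      show (MulAut.conjNormal (x : H)) ^ p = 1
      rw [← map_pow, ← hxH, pow_orderOf_eq_one, map_one]
    have hDB : Nat.Coprime p (Nat.card (commutator H)) := by
      apply Nat.Coprime.symm
      exact Nat.Coprime.coprime_dvd_right hpB hcop
    have hfix : ∀ y : commutator H, (orderOf y).Prime → σ y = y := by
      intro y hy
      have hyH : orderOf (y : H) = orderOf y := Subgroup.orderOf_coe y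
      have hyG : orderOf (((y : H)) : G) = orderOf y := by
        rw [Subgroup.orderOf_coe, hyH]
      have hne : orderOf ((x : H) : G) ≠ orderOf (((y : H)) : G) := by
        rw [hxG, hyG]
        intro h
        have h1 : p ∣ Nat.card (commutator H) := h ▸ orderOf_dvd_natCard y
        have h2 := Nat.dvd_gcd (dvd_refl p) h1
        rw [hDB.gcd_eq_one] at h2
        exact hp.one_lt.ne' (Nat.dvd_one.mp h2)
      have hmem : σ y ∈ Subgroup.zpowers y :=
        mem_zpowers_of_orderOf_eq (by rw [MulEquiv.orderOf_eq])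
      have hmemG : ((x : H) : G) * ((y : H) : G) * ((x : H) : G)⁻¹
          ∈ Subgroup.zpowers ((y : H) : G) := by
        obtain ⟨k, hk⟩ := Subgroup.mem_zpowers_iff.mp hmem
        refine Subgroup.mem_zpowers_iff.mpr ⟨k, ?_⟩
        have h1 : (((y ^ k : commutator H) : H) : G) = (((σ y : commutator H) : H) : G) := by
          rw [hk]
        rw [hσ] at h1
        simpa using h1
      have hcomm := commute_of_fpf hK hHK hfpf (x : H).2 (y : H).2 (by rw [hxG]; exact hp)
        (by rw [hyG]; exact hy) hne hmemG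
      apply Subtype.ext
      rw [hσ]
      apply Subtype.ext
      show ((x : H) : G) * ((y : H) : G) * ((x : H) : G)⁻¹ = ((y : H) : G)
      rw [hcomm]
      group
    have hxD : ∀ c, σ c = c := by
      letI : CommGroup (commutator H) := IsCyclic.commGroup
      exact mulAut_eq_one_of_fix_prime σ hσp hDB hfix
    intro hbot
    have hcen : (x : H) ∈ Subgroup.center H := by
      rw [Subgroup.mem_center_iff]
      intro h
      obtain ⟨⟨d, b⟩, rfl⟩ := hB.2 h
      have h1 : (x : H) * d * (x : H)⁻¹ = d := by
        rw [← hσ, hxD]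
      have h2 : (x : H) * d = d * x := by
        calc (x : H) * d = ((x : H) * d * (x : H)⁻¹) * x := by group
          _ = _ := by rw [h1]
      have h3 := hxB b b.2
      show (d : H) * (b : H) * (x : H) = (x : H) * ((d : H) * (b : H))
      calc (d : H) * b * x = d * (b * x) := by group
        _ = d * (x * b) := by rw [h3]
        _ = (d * x) * b := by group
        _ = (x * d) * b := by rw [h2]
        _ = _ := by group
    rw [hbot, Subgroup.mem_bot] at hcen
    rw [hcen, orderOf_one] at hxH
    exact hp.one_lt.ne hxH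

end Cfsg.Agent.Lib.Frobenius.Center
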