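import Mathlib
import Cfsg.Prelude.Def_Solvable
import Cfsg.Agent.Lib.Frobenius.Basic

/-!
# Constructing Frobenius groups from fixed point free actions
-/

set_option autoImplicit false
set_option linter.style.haveILetI false

universe u v

namespace Cfsg.Agent.Lib.Frobenius.Construct

open Cfsg Cfsg.Agent.Lib.Frobenius.Basic

/-- Transport of Frobenius complements along an isomorphism. -/
theorem isFrobeniusComplement_map {L : Type*} {L' : Type*} [Group L] [Group L'] (e : L ≃* L')
    {H : Subgroup L} (hH : IsFrobeniusComplement H) :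
    IsFrobeniusComplement (H.map e.toMonoidHom) := by
  obtain ⟨h1, h2, h3⟩ := hH
  refine ⟨?_, ?_, ?_⟩
  · intro h
    apply h1
    rw [eq_bot_iff]
    intro x hx
    have : e x ∈ H.map e.toMonoidHom := ⟨x, hx, rfl⟩
    rw [h] at this
    simpa using this
  · intro h
    apply h2
    rw [eq_top_iff]
    intro x _
    have : e x ∈ H.map e.toMonoidHom := by rw [h]; trivial
    obtain ⟨y, hy, hyx⟩ := this
    have hyx' : y = x := e.injective hyx
    rwa [← hyx']
  · intro g hg
    rw [eq_bot_iff]
    intro x hx
    obtain ⟨hx1, hx2⟩ := Subgroup.mem_inf.mp hx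
    rw [mem_conj_smul_iff] at hx2
    obtain ⟨y, hy, rfl⟩ := hx1
    obtain ⟨z, hz, hzz⟩ := hx2
    have hg' : e.symm g ∉ H := by
      intro hc
      apply hg
      exact ⟨_, hc, by simp⟩
    have hzz' : z = (e.symm g)⁻¹ * y * e.symm g := by
      apply e.injective
      have : e z = g⁻¹ * e y * g := hzz
      rw [this]
      simp
    have hy1 : y = 1 := IsFrobeniusComplement.ti ⟨h1, h2, h3⟩ hg' hy (hzz' ▸ hz)
    subst hy1
    simp

/-- Move a Frobenius complement into a group in `Type`. -/
theorem exists_type0 {L : Type u} [Group L] [Finite L] {H : Subgroup L}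
    (hH : IsFrobeniusComplement H) :
    ∃ (L' : Type) (_ : Group L') (_ : Finite L') (H' : Subgroup L'),
      IsFrobeniusComplement H' ∧ Nonempty (H ≃* H') := by
  haveI : Small.{0} L := Countable.toSmall L
  let e : L ≃* Shrink.{0} L := (Shrink.mulEquiv (α := L)).symm
  refine ⟨Shrink.{0} L, inferInstance, Finite.of_equiv L e.toEquiv, H.map e.toMonoidHom,
    isFrobeniusComplement_map e hH, ⟨?_⟩⟩
  exact (MulEquiv.subgroupMap e H)

/-- A fixed point free action yields a Frobenius complement isomorphic to the acting group. -/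
theorem exists_frobenius_of_fpf {N : Type u} {C : Type v} [Group N] [Group C] [Finite N] [Finite C]
    [Nontrivial N] [Nontrivial C] (φ : C →* MulAut N)
    (hfpf : ∀ c : C, c ≠ 1 → ∀ n : N, φ c n = n → n = 1) :
    ∃ (L : Type) (_ : Group L) (_ : Finite L) (H : Subgroup L),
      IsFrobeniusComplement H ∧ Nonempty (C ≃* H) := by
  classical
  let K : Subgroup (N ⋊[φ] C) := (SemidirectProduct.inl : N →* N ⋊[φ] C).range
  let H : Subgroup (N ⋊[φ] C) := (SemidirectProduct.inr : C →* N ⋊[φ] C).range
  haveI hKn : K.Normal := by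
    show (SemidirectProduct.inl : N →* N ⋊[φ] C).range.Normal
    rw [SemidirectProduct.range_inl_eq_ker_rightHom]
    exact MonoidHom.normal_ker _
  have hc : K.IsComplement' H := by
    apply Subgroup.isComplement'_of_disjoint_and_mul_eq_univ
    · rw [Subgroup.disjoint_def]
      rintro x ⟨n, rfl⟩ ⟨c, hc⟩
      have : n = 1 := by
        have := congrArg SemidirectProduct.left hc
        simpa using this.symm
      simp [this]
    · ext x
      simp only [Set.mem_mul, Set.mem_univ, iff_true]
      exact ⟨_, ⟨x.left, rfl⟩, _, ⟨x.right, rfl⟩, SemidirectProduct.inl_left_mul_inr_right x⟩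
  have hK : K ≠ ⊥ := by
    intro h
    obtain ⟨n, hn⟩ := exists_ne (1 : N)
    have : (SemidirectProduct.inl n : N ⋊[φ] C) ∈ K := ⟨n, rfl⟩
    rw [h, Subgroup.mem_bot] at this
    exact hn (SemidirectProduct.inl_injective (by simpa using this))
  have hH : H ≠ ⊥ := by
    intro h
    obtain ⟨n, hn⟩ := exists_ne (1 : C)
    have : (SemidirectProduct.inr n : N ⋊[φ] C) ∈ H := ⟨n, rfl⟩
    rw [h, Subgroup.mem_bot] at this
    exact hn (SemidirectProduct.inr_injective (by simpa using this))
  have hfix : ∀ h ∈ H, h ≠ 1 → ∀ k ∈ K, h * k = k * h → k = 1 := by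
    rintro _ ⟨c, rfl⟩ hc1 _ ⟨n, rfl⟩ hcomm
    have hc1' : c ≠ 1 := by
      rintro rfl
      simp at hc1
    have h1 : (SemidirectProduct.inl (φ c n) : N ⋊[φ] C) = SemidirectProduct.inl n := by
      rw [SemidirectProduct.inl_aut, hcomm]
      simp
    have h2 := SemidirectProduct.inl_injective h1
    have := hfpf c hc1' n h2
    simp [this]
  have hF : IsFrobeniusComplement H := isFrobeniusComplement_of_complement hc hK hH hfix
  haveI : Finite (N ⋊[φ] C) := Finite.of_equiv _ SemidirectProduct.equivProd.symm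
  obtain ⟨L, i1, i2, H', hH', ⟨e⟩⟩ := exists_type0 hF
  refine ⟨L, i1, i2, H', hH', ⟨?_⟩⟩
  have e0 : C ≃* H := MonoidHom.ofInjective SemidirectProduct.inr_injective
  exact e0.trans e

/-- Additive version: an additive action without fixed points. -/
theorem exists_frobenius_of_fpf_add {V : Type u} {C : Type v} [AddCommGroup V] [Group C] [Finite V]
    [Finite C] [Nontrivial V] [Nontrivial C] [DistribMulAction C V]
    (hfpf : ∀ c : C, c ≠ 1 → ∀ v : V, c • v = v → v = 0) :
    ∃ (L : Type) (_ : Group L) (_ : Finite L) (H : Subgroup L),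
      IsFrobeniusComplement H ∧ Nonempty (C ≃* H) := by
  let φ : C →* MulAut (Multiplicative V) :=
    { toFun := fun c => AddEquiv.toMultiplicative (DistribMulAction.toAddEquiv V c)
      map_one' := by
        ext v
        show (1 : C) • (Multiplicative.toAdd v) = Multiplicative.toAdd v
        exact one_smul C _
      map_mul' := fun a b => by
        ext v
        show (a * b) • (Multiplicative.toAdd v) = a • (b • (Multiplicative.toAdd v))
        exact mul_smul a b _ }
  apply exists_frobenius_of_fpf (N := Multiplicative V) φ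
  intro c hc n hn
  have := hfpf c hc (Multiplicative.toAdd n) (by
    have h1 : φ c n = n := hn
    exact congrArg Multiplicative.toAdd h1)
  exact congrArg Multiplicative.ofAdd this

/-- Version for representations. -/
theorem exists_frobenius_of_rep {k : Type*} {V : Type u} {C : Type v} [CommRing k] [AddCommGroup V]
    [Module k V] [Group C] [Finite V] [Finite C] [Nontrivial V] [Nontrivial C]
    (ρ : Representation k C V) (hfpf : ∀ c : C, c ≠ 1 → ∀ v : V, ρ c v = v → v = 0) :
    ∃ (L : Type) (_ : Group L) (_ : Finite L) (H : Subgroup L),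
      IsFrobeniusComplement H ∧ Nonempty (C ≃* H) := by
  letI : DistribMulAction C V := DistribMulAction.compHom V (ρ : C →* Module.End k V)
  exact exists_frobenius_of_fpf_add hfpf

/-- Prime `p ≡ 1` mod `n` and an element of order `n` in `(ZMod p)ˣ`. -/
theorem exists_prime_unit_order (n : ℕ) (hn : n ≠ 0) :
    ∃ p : ℕ, p.Prime ∧ 2 < p ∧ ∃ ζ : (ZMod p)ˣ, orderOf ζ = n := by
  obtain ⟨p, hp, hgt, hmod⟩ := Nat.exists_prime_gt_modEq_one (k := n) 2 hn
  refine ⟨p, hp, hgt, ?_⟩
  haveI : Fact p.Prime := ⟨hp⟩
  obtain ⟨g, hg⟩ := IsCyclic.exists_generator (α := (ZMod p)ˣ)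
  have hcard : Nat.card (ZMod p)ˣ = p - 1 := by
    rw [Nat.card_eq_fintype_card, ZMod.card_units]
  have hord : orderOf g = p - 1 := by
    rw [orderOf_eq_card_of_forall_mem_zpowers hg, hcard]
  have hdvd : n ∣ p - 1 := (Nat.modEq_iff_dvd' hp.one_lt.le).mp hmod.symm
  refine ⟨g ^ ((p - 1) / n), ?_⟩
  rw [orderOf_pow_of_dvd]
  · rw [hord]
    exact Nat.div_div_self hdvd (by have := hp.two_le; omega)
  · exact fun h0 => by
      have := Nat.div_eq_zero_iff.mp h0
      have h2 := Nat.le_of_dvd (by have := hp.two_le; omega) hdvd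
      omega
  · rw [hord]
    exact Nat.div_dvd_of_dvd hdvd

end Cfsg.Agent.Lib.Frobenius.Construct
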