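import Mathlib
import Cfsg.Agent.Lib.Frobenius.Construct

/-!
# Constructing Frobenius groups from fixed point free actions, keeping track of the kernel order
-/

set_option autoImplicit false
set_option linter.style.haveILetI false

universe u v

namespace Cfsg.Agent.Lib.Frobenius.ConstructCard

open Cfsg Cfsg.Agent.Lib.Frobenius.Basic Cfsg.Agent.Lib.Frobenius.Construct

/-- A fixed point free action yields a Frobenius complement isomorphic to the acting group, whose
kernel has the order of the group acted on. -/
theorem exists_frobenius_of_fpf_card {N : Type u} {C : Type v} [Group N] [Group C] [Finite N]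
    [Finite C] [Nontrivial N] [Nontrivial C] (φ : C →* MulAut N)
    (hfpf : ∀ c : C, c ≠ 1 → ∀ n : N, φ c n = n → n = 1) :
    ∃ (L : Type) (_ : Group L) (_ : Finite L) (H : Subgroup L),
      IsFrobeniusComplement H ∧ Nonempty (C ≃* H) ∧ Nat.card (frobeniusKernel H) = Nat.card N := by
  classical
  let K : Subgroup (N ⋊[φ] C) := (SemidirectProduct.inl : N →* N ⋊[φ] C).range
  let H : Subgroup (N ⋊[φ] C) := (SemidirectProduct.inr : C →* N ⋊[φ] C).range
  haveI hKn : K.Normal := by
    show (SemidirectProduct.inl : N →* N ⋊[φ] C).range.Normal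
    rw [SemidirectProduct.range_inl_eq_ker_rightHom]
    exact MonoidHom.normal_ker _
  have hc : K.IsComplement' H := by
    apply Subgroup.isComplement'_of_disjoint_and_mul_eq_univ
    · rw [Subgroup.disjoint_def]
      rintro x ⟨n, rfl⟩ ⟨c, hc⟩
      have : n = 1 := by
        have := congrArg SemidirectProduct.left hc
        simpa using this.symm
      simp [this]
    · ext x
      simp only [Set.mem_mul, Set.mem_univ, iff_true]
      exact ⟨_, ⟨x.left, rfl⟩, _, ⟨x.right, rfl⟩, SemidirectProduct.inl_left_mul_inr_right x⟩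
  have hK : K ≠ ⊥ := by
    intro h
    obtain ⟨n, hn⟩ := exists_ne (1 : N)
    have : (SemidirectProduct.inl n : N ⋊[φ] C) ∈ K := ⟨n, rfl⟩
    rw [h, Subgroup.mem_bot] at this
    exact hn (SemidirectProduct.inl_injective (by simpa using this))
  have hH : H ≠ ⊥ := by
    intro h
    obtain ⟨n, hn⟩ := exists_ne (1 : C)
    have : (SemidirectProduct.inr n : N ⋊[φ] C) ∈ H := ⟨n, rfl⟩
    rw [h, Subgroup.mem_bot] at this
    exact hn (SemidirectProduct.inr_injective (by simpa using this))
  have hfix : ∀ h ∈ H, h ≠ 1 → ∀ k ∈ K, h * k = k * h → k = 1 := by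
    rintro _ ⟨c, rfl⟩ hc1 _ ⟨n, rfl⟩ hcomm
    have hc1' : c ≠ 1 := by
      rintro rfl
      simp at hc1
    have h1 : (SemidirectProduct.inl (φ c n) : N ⋊[φ] C) = SemidirectProduct.inl n := by
      rw [SemidirectProduct.inl_aut, hcomm]
      simp
    have h2 := SemidirectProduct.inl_injective h1
    have := hfpf c hc1' n h2
    simp [this]
  have hF : IsFrobeniusComplement H := isFrobeniusComplement_of_complement hc hK hH hfix
  haveI : Finite (N ⋊[φ] C) := Finite.of_equiv _ SemidirectProduct.equivProd.symm
  have hcardG : Nat.card (N ⋊[φ] C) = Nat.card N * Nat.card C := by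
    rw [Nat.card_congr SemidirectProduct.equivProd, Nat.card_prod]
  have e0 : C ≃* H := MonoidHom.ofInjective SemidirectProduct.inr_injective
  -- move to `Type`
  haveI : Small.{0} (N ⋊[φ] C) := Countable.toSmall _
  let e : (N ⋊[φ] C) ≃* Shrink.{0} (N ⋊[φ] C) := (Shrink.mulEquiv (α := N ⋊[φ] C)).symm
  haveI hfin : Finite (Shrink.{0} (N ⋊[φ] C)) := Finite.of_equiv _ e.toEquiv
  let H' : Subgroup (Shrink.{0} (N ⋊[φ] C)) := H.map e.toMonoidHom
  have e1 : H ≃* H' := MulEquiv.subgroupMap e H
  have hF' : IsFrobeniusComplement H' := isFrobeniusComplement_map e hF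
  refine ⟨Shrink.{0} (N ⋊[φ] C), inferInstance, hfin, H', hF', ⟨e0.trans e1⟩, ?_⟩
  rw [card_frobeniusKernel hF']
  have h1 := Subgroup.index_mul_card H'
  have h2 : Nat.card H' = Nat.card C := (Nat.card_congr (e0.trans e1).toEquiv).symm
  have h3 : Nat.card (Shrink.{0} (N ⋊[φ] C)) = Nat.card N * Nat.card C := by
    rw [← hcardG]
    exact (Nat.card_congr e.toEquiv).symm
  rw [h2, h3] at h1
  exact Nat.eq_of_mul_eq_mul_right Nat.card_pos h1

/-- Additive version. -/
theorem exists_frobenius_of_fpf_add_card {V : Type u} {C : Type v} [AddCommGroup V] [Group C]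
    [Finite V] [Finite C] [Nontrivial V] [Nontrivial C] [DistribMulAction C V]
    (hfpf : ∀ c : C, c ≠ 1 → ∀ v : V, c • v = v → v = 0) :
    ∃ (L : Type) (_ : Group L) (_ : Finite L) (H : Subgroup L),
      IsFrobeniusComplement H ∧ Nonempty (C ≃* H) ∧ Nat.card (frobeniusKernel H) = Nat.card V := by
  let φ : C →* MulAut (Multiplicative V) :=
    { toFun := fun c => AddEquiv.toMultiplicative (DistribMulAction.toAddEquiv V c)
      map_one' := by
        ext v
        show (1 : C) • (Multiplicative.toAdd v) = Multiplicative.toAdd v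
        exact one_smul C _
      map_mul' := fun a b => by
        ext v
        show (a * b) • (Multiplicative.toAdd v) = a • (b • (Multiplicative.toAdd v))
        exact mul_smul a b _ }
  have := exists_frobenius_of_fpf_card (N := Multiplicative V) φ (by
    intro c hc n hn
    have := hfpf c hc (Multiplicative.toAdd n) (by
      have h1 : φ c n = n := hn
      exact congrArg Multiplicative.toAdd h1)
    exact congrArg Multiplicative.ofAdd this)
  have hc : Nat.card (Multiplicative V) = Nat.card V := Nat.card_congr Multiplicative.toAdd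
  rwa [hc] at this

end Cfsg.Agent.Lib.Frobenius.ConstructCard
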