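import Mathlib
import Cfsg.Agent.Lib.Frobenius.ConstructCard

/-!
# Fixed point free modules for the quaternion group of order 8
-/

set_option autoImplicit false
set_option linter.style.haveILetI false

namespace Cfsg.Agent.Lib.Frobenius.Q8Module

open Cfsg QuaternionGroup

section Lift

variable {U : Type*} [Group U]

/-- The power map on `ZMod 4`. -/
def pw (I : U) (i : ZMod (2 * 2)) : U := I ^ i.val

theorem pw_add {I : U} (hI4 : I ^ 4 = 1) (i j : ZMod (2 * 2)) : pw I (i + j) = pw I i * pw I j := by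
  unfold pw
  rw [ZMod.val_add, ← pow_add]
  exact (pow_eq_pow_mod (n := 4) _ hI4).symm

theorem pw_zero (I : U) : pw I 0 = 1 := by
  unfold pw
  rw [ZMod.val_zero, pow_zero]

theorem pw_neg {I : U} (hI4 : I ^ 4 = 1) (i : ZMod (2 * 2)) : pw I (-i) = (pw I i)⁻¹ := by
  rw [eq_inv_iff_mul_eq_one, ← pw_add hI4, neg_add_cancel, pw_zero]

theorem pw_comm {I J : U} (hrel : J * I * J⁻¹ = I⁻¹) (k : ℕ) : I ^ k * J = J * (I ^ k)⁻¹ := by
  have h1 : I * J = J * I⁻¹ := by
    have h2 : J * I = I⁻¹ * J := by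
      calc J * I = (J * I * J⁻¹) * J := by group
        _ = _ := by rw [hrel]
    calc I * J = I * (J * I) * I⁻¹ := by group
      _ = I * (I⁻¹ * J) * I⁻¹ := by rw [h2]
      _ = _ := by group
  induction k with
  | zero => simp
  | succ k ih =>
    calc I ^ (k + 1) * J = I ^ k * (I * J) := by rw [pow_succ, mul_assoc]
      _ = I ^ k * (J * I⁻¹) := by rw [h1]
      _ = (I ^ k * J) * I⁻¹ := by group
      _ = (J * (I ^ k)⁻¹) * I⁻¹ := by rw [ih]
      _ = _ := by
        rw [pow_succ, mul_inv_rev]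
        group

/-- The homomorphism from `Q8` with prescribed images of the generators. -/
def quatLift (I J : U) (hI4 : I ^ 4 = 1) (hJ2 : J ^ 2 = I ^ 2) (hrel : J * I * J⁻¹ = I⁻¹) :
    QuaternionGroup 2 →* U where
  toFun
    | a i => pw I i
    | xa i => J * pw I i
  map_one' := by
    show pw I 0 = 1
    exact pw_zero I
  map_mul' := by
    have hcomm : ∀ i : ZMod (2 * 2), pw I i * J = J * pw I (-i) := by
      intro i
      rw [pw_neg hI4]
      exact pw_comm hrel _
    have h2 : ((2 : ℕ) : ZMod (2 * 2)).val = 2 := rfl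
    rintro (i | i) (j | j)
    · show pw I (i + j) = pw I i * pw I j
      exact pw_add hI4 i j
    · show J * pw I (j - i) = pw I i * (J * pw I j)
      rw [← mul_assoc, hcomm, mul_assoc, ← pw_add hI4, sub_eq_add_neg, add_comm]
    · show J * pw I (i + j) = (J * pw I i) * pw I j
      rw [pw_add hI4, mul_assoc]
    · show pw I (((2 : ℕ) : ZMod (2 * 2)) + j - i) = (J * pw I i) * (J * pw I j)
      have h3 : pw I ((2 : ℕ) : ZMod (2 * 2)) = I ^ 2 := by
        unfold pw
        rw [h2]
      calc pw I (((2 : ℕ) : ZMod (2 * 2)) + j - i)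
          = pw I ((2 : ℕ) : ZMod (2 * 2)) * (pw I (-i) * pw I j) := by
            rw [← pw_add hI4, ← pw_add hI4]
            congr 1
            ring
        _ = J ^ 2 * (pw I (-i) * pw I j) := by rw [h3, hJ2]
        _ = J * (J * pw I (-i)) * pw I j := by rw [sq]; group
        _ = J * (pw I i * J) * pw I j := by rw [hcomm]
        _ = _ := by group

theorem quatLift_a (I J : U) (hI4 : I ^ 4 = 1) (hJ2 : J ^ 2 = I ^ 2) (hrel : J * I * J⁻¹ = I⁻¹)
    (i : ZMod (2 * 2)) : quatLift I J hI4 hJ2 hrel (a i) = pw I i := rfl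

end Lift

/-- The central involution of `Q8`. -/
def z8 : QuaternionGroup 2 := a (2 : ZMod (2 * 2))

theorem exists_pow_eq_z8 : ∀ c : QuaternionGroup 2, c ≠ 1 → c = z8 ∨ c ^ 2 = z8 := by
  decide +kernel

theorem z8_ne_one : z8 ≠ 1 := by
  decide +kernel

/-- Modules for `Q8` on which the involution acts as `-1`. -/
structure Q8Mod (s : ℕ) : Prop where
  out : ∃ (V : Type) (_ : AddCommGroup V) (_ : Finite V) (_ : DistribMulAction (QuaternionGroup 2) V),
    Nat.card V = s * s ∧ ∀ v : V, z8 • v = -v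

theorem q8Mod_one : Q8Mod 1 := by
  refine ⟨⟨PUnit, inferInstance, inferInstance, ?_, ?_, ?_⟩⟩
  · exact
      { smul := fun _ _ => PUnit.unit
        one_smul := fun _ => rfl
        mul_smul := fun _ _ _ => rfl
        smul_zero := fun _ => rfl
        smul_add := fun _ _ _ => rfl }
  · simp
  · intro v
    rfl

theorem q8Mod_mul {s t : ℕ} (hs : Q8Mod s) (ht : Q8Mod t) : Q8Mod (s * t) := by
  obtain ⟨V, i1, i2, i3, h1, h2⟩ := hs.out
  obtain ⟨W, j1, j2, j3, h3, h4⟩ := ht.out
  refine ⟨⟨V × W, inferInstance, inferInstance, inferInstance, ?_, ?_⟩⟩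
  · rw [Nat.card_prod, h1, h3]
    ring
  · rintro ⟨v, w⟩
    rw [Prod.smul_mk, h2, h4]
    rfl

/-- The two dimensional module over `ZMod p`, `p` an odd prime. -/
theorem q8Mod_prime (p : ℕ) [hp : Fact p.Prime] : Q8Mod p := by
  obtain ⟨x, y, hxy⟩ := ZMod.sq_add_sq p (-1 : ZMod p)
  let I₀ : (ZMod p × ZMod p) →+ (ZMod p × ZMod p) := AddMonoidHom.mk' (fun v => (-v.2, v.1)) (fun v w => by
    apply Prod.ext
    · simp only [Prod.fst_add, Prod.snd_add]
      ring
    · simp only [Prod.fst_add, Prod.snd_add])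
  let I₁ : (ZMod p × ZMod p) →+ (ZMod p × ZMod p) := AddMonoidHom.mk' (fun v => (v.2, -v.1)) (fun v w => by
    apply Prod.ext
    · simp only [Prod.fst_add, Prod.snd_add]
    · simp only [Prod.fst_add, Prod.snd_add]
      ring)
  let J₀ : (ZMod p × ZMod p) →+ (ZMod p × ZMod p) := AddMonoidHom.mk' (fun v => (x * v.1 + y * v.2, y * v.1 - x * v.2))
    (fun v w => by
      apply Prod.ext
      · simp only [Prod.fst_add, Prod.snd_add]
        ring
      · simp only [Prod.fst_add, Prod.snd_add]
        ring)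
  let J₁ : (ZMod p × ZMod p) →+ (ZMod p × ZMod p) := AddMonoidHom.mk' (fun v => (-(x * v.1 + y * v.2), -(y * v.1 - x * v.2)))
    (fun v w => by
      apply Prod.ext
      · simp only [Prod.fst_add, Prod.snd_add]
        ring
      · simp only [Prod.fst_add, Prod.snd_add]
        ring)
  have hI₀ : ∀ v, I₀ v = (-v.2, v.1) := fun _ => rfl
  have hI₁ : ∀ v, I₁ v = (v.2, -v.1) := fun _ => rfl
  have hJ₀ : ∀ v, J₀ v = (x * v.1 + y * v.2, y * v.1 - x * v.2) := fun _ => rfl
  have hJ₁ : ∀ v, J₁ v = (-(x * v.1 + y * v.2), -(y * v.1 - x * v.2)) := fun _ => rfl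
  let I : (AddMonoid.End (ZMod p × ZMod p))ˣ :=
    { val := I₀
      inv := I₁
      val_inv := by
        apply AddMonoidHom.ext
        intro v
        show I₀ (I₁ v) = v
        rw [hI₁, hI₀]
        apply Prod.ext <;> simp
      inv_val := by
        apply AddMonoidHom.ext
        intro v
        show I₁ (I₀ v) = v
        rw [hI₀, hI₁]
        apply Prod.ext <;> simp }
  let J : (AddMonoid.End (ZMod p × ZMod p))ˣ :=
    { val := J₀
      inv := J₁
      val_inv := by
        apply AddMonoidHom.ext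
        intro v
        apply Prod.ext
        · show (J₀ (J₁ v)).1 = v.1
          rw [hJ₁, hJ₀]
          simp only
          linear_combination (-v.1) * hxy
        · show (J₀ (J₁ v)).2 = v.2
          rw [hJ₁, hJ₀]
          simp only
          linear_combination (-v.2) * hxy
      inv_val := by
        apply AddMonoidHom.ext
        intro v
        apply Prod.ext
        · show (J₁ (J₀ v)).1 = v.1
          rw [hJ₁, hJ₀]
          simp only
          linear_combination (-v.1) * hxy
        · show (J₁ (J₀ v)).2 = v.2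
          rw [hJ₁, hJ₀]
          simp only
          linear_combination (-v.2) * hxy }
  have hI2 : ∀ v, ((I ^ 2 : (AddMonoid.End (ZMod p × ZMod p))ˣ) : AddMonoid.End (ZMod p × ZMod p)) v = -v := by
    intro v
    rw [sq]
    show I₀ (I₀ v) = -v
    rw [hI₀, hI₀]
    apply Prod.ext <;> simp
  have hI4 : I ^ 4 = 1 := by
    apply Units.ext
    apply AddMonoidHom.ext
    intro v
    have h : I ^ 4 = I ^ 2 * I ^ 2 := by rw [← pow_add]
    rw [h]
    show ((I ^ 2 : (AddMonoid.End (ZMod p × ZMod p))ˣ) : AddMonoid.End (ZMod p × ZMod p))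
      (((I ^ 2 : (AddMonoid.End (ZMod p × ZMod p))ˣ) : AddMonoid.End (ZMod p × ZMod p)) v) = v
    rw [hI2, hI2, neg_neg]
  have hJ2 : J ^ 2 = I ^ 2 := by
    apply Units.ext
    apply AddMonoidHom.ext
    intro v
    refine Eq.trans ?_ (hI2 v).symm
    rw [sq]
    show J₀ (J₀ v) = -v
    rw [hJ₀, hJ₀]
    apply Prod.ext
    · simp only [Prod.fst_neg]
      linear_combination v.1 * hxy
    · simp only [Prod.snd_neg]
      linear_combination v.2 * hxy
  have hrel : J * I * J⁻¹ = I⁻¹ := by
    rw [mul_inv_eq_iff_eq_mul, eq_inv_mul_iff_mul_eq]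
    apply Units.ext
    apply AddMonoidHom.ext
    intro v
    show I₀ (J₀ (I₀ v)) = J₀ v
    rw [hI₀, hJ₀, hI₀, hJ₀]
    apply Prod.ext
    · simp only
      ring
    · simp only
      ring
  let ρ := quatLift I J hI4 hJ2 hrel
  refine ⟨⟨ZMod p × ZMod p, inferInstance, inferInstance,
    DistribMulAction.compHom (ZMod p × ZMod p) ((Units.coeHom (AddMonoid.End (ZMod p × ZMod p))).comp ρ), ?_, ?_⟩⟩
  · show Nat.card (ZMod p × ZMod p) = _
    rw [Nat.card_prod, Nat.card_zmod]
  · intro v
    show ((ρ z8 : (AddMonoid.End (ZMod p × ZMod p))ˣ) : AddMonoid.End (ZMod p × ZMod p)) v = -v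
    have h1 : ρ z8 = I ^ 2 := rfl
    rw [h1, hI2]

/-- Every odd number carries a module. -/
theorem q8Mod_odd (s : ℕ) (hs : Odd s) : Q8Mod s := by
  induction s using induction_on_primes with
  | zero => simp at hs
  | one => exact q8Mod_one
  | prime_mul p a hp ih =>
    haveI : Fact p.Prime := ⟨hp⟩
    exact q8Mod_mul (q8Mod_prime p) (ih (Nat.odd_mul.mp hs).2)

/-- Frobenius groups with complement `Q8` exist with kernel of any odd square order. -/
theorem exists_q8_frobenius (s : ℕ) (hs : Odd s) (hs1 : 1 < s) :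
    ∃ (L : Type) (_ : Group L) (_ : Finite L) (H : Subgroup L), IsFrobeniusComplement H ∧
      Nonempty (H ≃* QuaternionGroup 2) ∧ Nat.card (frobeniusKernel H) = s * s := by
  obtain ⟨V, i1, i2, i3, h1, h2⟩ := (q8Mod_odd s hs).out
  have hodd : Odd (Nat.card V) := by
    rw [h1]
    exact hs.mul hs
  haveI : Nontrivial V := by
    rw [← Finite.one_lt_card_iff_nontrivial, h1]
    nlinarith
  have h0 : ∀ v : V, z8 • v = v → v = 0 := by
    intro v hv
    rw [h2] at hv
    have h3 : 2 • v = 0 := by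
      rw [two_nsmul]
      nth_rw 1 [← hv]
      simp
    have h4 : addOrderOf v ∣ 2 := addOrderOf_dvd_of_nsmul_eq_zero h3
    have h5 : addOrderOf v ∣ Nat.card V := addOrderOf_dvd_natCard v
    have h6 : Nat.Coprime 2 (Nat.card V) := (Nat.coprime_two_left).mpr hodd
    have h7 := Nat.dvd_gcd h4 h5
    rw [h6.gcd_eq_one] at h7
    exact AddMonoid.addOrderOf_eq_one_iff.mp (Nat.dvd_one.mp h7)
  obtain ⟨L, j1, j2, H, hF, ⟨e⟩, hk⟩ := Cfsg.Agent.Lib.Frobenius.ConstructCard.exists_frobenius_of_fpf_add_card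
    (C := QuaternionGroup 2) (V := V) (by
      intro c hc v hv
      rcases exists_pow_eq_z8 c hc with h | h
      · rw [h] at hv
        exact h0 v hv
      · apply h0
        rw [← h, sq, mul_smul, hv, hv])
  exact ⟨L, j1, j2, H, hF, ⟨e.symm⟩, hk.trans h1⟩

end Cfsg.Agent.Lib.Frobenius.Q8Module
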